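import Groth.Agent.CurveFamLib.Omega
import Groth.Agent.KVbLib.OmegaExt
import Groth.Agent.S7615
import Groth.Agent.CurveLib.Ample
import Groth.Agent.AmpleFibLib.Nbhd
import Mathlib.RingTheory.Etale.Field

/-!
# Ampleness of the differentials of smooth curves of genus at least two

No geometric connectedness is assumed: the curve is viewed over its field of constants.
-/

set_option autoImplicit false
set_option backward.isDefEq.respectTransparency false
set_option linter.style.haveILetI false
set_option maxHeartbeats 1000000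

universe u

open CategoryTheory CategoryTheory.Limits AlgebraicGeometry TopologicalSpace
open Groth.Agent.PullbackMod

noncomputable section

namespace Groth.Agent.AmpleCurveFamLib

/-- The case of a curve over its field of constants `K`, for the structure over a subfield `k`. -/
theorem isAmple_omega_over {k K : Type u} [Field k] [Field K] [Algebra k K] [Algebra.Etale k K] [Module.Finite k K]
    {X : Scheme.{u}} [X.Over (Spec (CommRingCat.of k))]
    [IsProper (X ↘ Spec (CommRingCat.of k))] [Smooth (X ↘ Spec (CommRingCat.of k))] [IsIntegral X]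
    (a : X ⟶ Spec (CommRingCat.of K))
    (hp : a ≫ Spec.map (CommRingCat.ofHom (algebraMap k K)) = X ↘ Spec (CommRingCat.of k))
    (hb : Function.Bijective (Coh.toGlobal a)) (hdim : topologicalKrullDim X = 1)
    (hg : Module.finrank k (Coh.HH X (Coh.structureModule X) 0) + 1 ≤
      Module.finrank k (Coh.HH X (Coh.structureModule X) 1)) :
    CohB1.IsAmple (CurveFF.om k X) := by
  let f := X ↘ Spec (CommRingCat.of k)
  let e : Spec (CommRingCat.of K) ⟶ Spec (CommRingCat.of k) := Spec.map (CommRingCat.ofHom (algebraMap k K))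
  haveI : Etale e := (HasRingHomProperty.Spec_iff (P := @Etale)).2 (RingHom.etale_algebraMap.2 inferInstance)
  letI : X.Over (Spec (CommRingCat.of K)) := ⟨a⟩
  haveI : IsProper (X ↘ Spec (CommRingCat.of K)) := by
    haveI : IsProper (a ≫ e) := by rw [hp]; infer_instance
    exact IsProper.of_comp a e
  haveI : Smooth (X ↘ Spec (CommRingCat.of K)) := by
    let g : X ⟶ pullback f e := pullback.lift (𝟙 X) a (by rw [Category.id_comp, hp])
    haveI : Etale g := by
      haveI : Etale (g ≫ pullback.fst f e) := by rw [pullback.lift_fst]; infer_instance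
      haveI : Etale (pullback.fst f e) := MorphismProperty.pullback_fst _ _ inferInstance
      exact Etale.of_comp g (pullback.fst f e)
    haveI : Smooth (pullback.snd f e) := MorphismProperty.pullback_snd (P := @Smooth) _ _ inferInstance
    show Smooth a
    rw [show a = g ≫ pullback.snd f e from (pullback.lift_snd _ _ _).symm]
    infer_instance
  -- the scalar towers
  have htow : ∀ n, Module.finrank k (Coh.HH X (Coh.structureModule X) n) =
      Module.finrank k K * Module.finrank K (Coh.HH X (Coh.structureModule X) n) := by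
    intro n
    haveI : IsScalarTower k K (Coh.HH X (Coh.structureModule X) n) :=
      IsScalarTower.of_algebraMap_smul fun r v => by
        have h2 : Coh.toGlobal (a ≫ e) r = Coh.toGlobal a (algebraMap k K r) := by
          show (a ≫ e).appTop ((Scheme.ΓSpecIso (CommRingCat.of k)).inv r) = _
          rw [Scheme.Hom.comp_appTop, CommRingCat.comp_apply]
          refine congrArg a.appTop ?_
          exact (congr($(Scheme.ΓSpecIso_inv_naturality (CommRingCat.ofHom (algebraMap k K))) r)).symm
        show Coh.toGlobal a (algebraMap k K r) • v = Coh.toGlobal f r • v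
        rw [← h2]
        simp only [hp, f, e]
    exact (Module.finrank_mul_finrank k K (Coh.HH X (Coh.structureModule X) n)).symm
  have h0 : Module.finrank K (Coh.HH X (Coh.structureModule X) 0) = 1 := by
    let ψ : K →ₗ[K] Coh.HH X (Coh.structureModule X) 0 :=
      LinearMap.toSpanSingleton K _ ((CurveLib.secOf (Coh.structureModule X)).symm (1 : Γ(X, ⊤)))
    have hψ : ∀ r, CurveLib.secOf (Coh.structureModule X) (ψ r) = Coh.toGlobal a r := fun r => by
      refine (CurveLib.secOf_smul (k := K) _ r _).trans ?_
      rw [AddEquiv.apply_symm_apply]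
      exact (mul_one (Coh.toGlobal a r : Γ(X, ⊤)))
    have hψb : Function.Bijective ψ := by
      refine ⟨fun r r' h => hb.1 ?_, fun c => ?_⟩
      · rw [← hψ, ← hψ, h]
      · obtain ⟨r, hr⟩ := hb.2 (CurveLib.secOf (Coh.structureModule X) c)
        exact ⟨r, (CurveLib.secOf (Coh.structureModule X)).injective ((hψ r).trans hr)⟩
    rw [← (LinearEquiv.ofBijective ψ hψb).finrank_eq, Module.finrank_self]
  rw [htow 0, htow 1, h0, mul_one] at hg
  have hg2 : 2 ≤ Curv2.genus K X := by
    show 2 ≤ Module.finrank K (Coh.HH X (Coh.structureModule X) 1)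
    by_contra hlt
    have hd : 0 < Module.finrank k K := Module.finrank_pos
    generalize Module.finrank K (Coh.HH X (Coh.structureModule X) 1) = m at hg hlt
    interval_cases m <;> omega
  haveI := VBLib.isRegCurve_of_smooth K (X := X) hdim.le
  have hI : PicF.IsInvertible (CurveFF.om K X) := CurveFF.omega_invertible_of_smooth K hdim h0
  have hamp : CohB1.IsAmple (CurveFF.om K X) := (CurveLib.isAmple_iff_deg_pos hdim hI).2 (by
    rw [(CurveFF.omega_deg_h0 K hdim h0).1]
    have : (2 : ℤ) ≤ (Curv2.genus K X : ℤ) := by exact_mod_cast hg2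
    omega)
  haveI : QuasiSeparated a := inferInstanceAs (QuasiSeparated (X ↘ Spec (CommRingCat.of K)))
  obtain ⟨θ⟩ := KVb.omega_etale (f := f) (f' := a) (g := 𝟙 X) (h := e) (by rw [Category.id_comp, hp])
  exact AmpleLib.isAmple_of_iso (θ.symm ≪≫ (Scheme.Modules.pullbackId X).app _) hamp

/-- A connected smooth proper curve with `h¹(O) > h⁰(O)` has ample differentials. -/
theorem isAmple_omega {k : Type u} [Field k] {X : Scheme.{u}} [X.Over (Spec (CommRingCat.of k))]
    [IsProper (X ↘ Spec (CommRingCat.of k))] [Smooth (X ↘ Spec (CommRingCat.of k))] [IrreducibleSpace X]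
    (hdim : topologicalKrullDim X = 1)
    (hg : Module.finrank k (Coh.HH X (Coh.structureModule X) 0) + 1 ≤
      Module.finrank k (Coh.HH X (Coh.structureModule X) 1)) :
    CohB1.IsAmple (CurveFF.om k X) := by
  haveI := CurveLib.isIntegral_of_smooth (X := X) k
  let f := X ↘ Spec (CommRingCat.of k)
  obtain ⟨hF, hfin, hsep, -⟩ := S7615.result k X
  let φ : CommRingCat.of k ⟶ Γ(X, ⊤) := (Scheme.ΓSpecIso (CommRingCat.of k)).inv ≫ f.appTop
  letI : Algebra k Γ(X, ⊤) := φ.hom.toAlgebra
  letI : Field Γ(X, ⊤) := hF.toField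
  haveI : Module.Finite k Γ(X, ⊤) := hfin
  haveI : Algebra.IsSeparable k Γ(X, ⊤) := hsep (AVLib.geometricallyReduced_of_smooth f)
  haveI : Algebra.FormallyEtale k Γ(X, ⊤) := Algebra.FormallyEtale.of_isSeparable k Γ(X, ⊤)
  haveI : Algebra.FinitePresentation k Γ(X, ⊤) :=
    Algebra.FinitePresentation.of_finiteType.1 inferInstance
  haveI : Algebra.Etale k Γ(X, ⊤) := {}
  refine isAmple_omega_over (K := Γ(X, ⊤)) X.toSpecΓ ?_ ?_ hdim hg
  · show X.toSpecΓ ≫ Spec.map φ = f
    simp only [φ, Spec.map_comp, ← Scheme.toSpecΓ_naturality_assoc, ← Scheme.isoSpec_hom]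
    simp
  · have h : ∀ r : Γ(X, ⊤), Coh.toGlobal (A := Γ(X, ⊤)) X.toSpecΓ r = r := fun r => by
      show X.toSpecΓ.appTop ((Scheme.ΓSpecIso Γ(X, ⊤)).inv r) = r
      rw [Scheme.toSpecΓ_appTop, ← CommRingCat.comp_apply, Iso.inv_hom_id]
      rfl
    exact ⟨fun r r' e => by rwa [h, h] at e, fun r => ⟨r, h r⟩⟩

/-- Differentials are invertible when they are so on every fibre. -/
theorem isInvertible_omega_of_fibres {C S : Scheme.{u}} (f : C ⟶ S) [Smooth f] [IsProper f]
    (h : ∀ s, PicF.IsInvertible ((Scheme.Modules.pullback (f.fiberι s)).obj (Omega.sheaf f))) :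
    PicF.IsInvertible (Omega.sheaf f) := by
  have hlf := InfLiftLib.isFinLocFree_omega f
  obtain ⟨hq, hfp⟩ := isQCoh_and_isFP_of_isFinLocFree _ hlf
  haveI := hq
  refine VBLib.isInvertible_of_rank ((isFinLocFreeOfRank_iff_freeAt _ hfp 1).2 fun x => ?_)
  obtain ⟨n, hn⟩ := (isFinLocFree_iff_freeAt _ hfp).1 hlf x
  let y := f.asFiber x
  have h1 : FreeAt n ((Scheme.Modules.pullback (f.fiberι (f x))).obj (Omega.sheaf f)) y :=
    freeAt_pullback (M := Omega.sheaf f) (f.fiberι (f x)) y (by rw [f.fiberι_asFiber]; exact hn)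
  obtain ⟨e⟩ := CurveLib.freeAt_one_of_isInvertible (h (f x)) y
  obtain rfl : n = 1 := by rw [← fibreRank_eq_of_freeAt _ h1, fibreRank_eq_of_freeAt _ ⟨e⟩]
  exact hn

/-- The fibre over its residue field. -/
local instance fibreOverOf {C S : Scheme.{u}} (f : C ⟶ S) (s : S) :
    (f.fiber s).Over (Spec (CommRingCat.of (S.residueField s))) := ⟨f.fiberToSpecResidueField s⟩

theorem fiberRank_structure {C S : Scheme.{u}} (f : C ⟶ S) (s : S) (n : ℕ) :
    Module.finrank (S.residueField s) (Coh.HH (f.fiber s) (Coh.structureModule (f.fiber s)) n) =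
      CohIII.fiberRank f (Coh.structureModule C) n s :=
  (ShBCLib.finrank_HH_iso (X := f.fiber s) (K := S.residueField s) (DCohLib.pullStructureIso (f.fiberι s)) n).symm

/-- Differentials of a family of irreducible curves of genus at least two are relatively ample. -/
theorem isRelAmple_omega {C S : Scheme.{u}} (f : C ⟶ S) [IsProper f] [Smooth f]
    (hirr : ∀ s : S, IrreducibleSpace ↥(f.fiber s)) (hdim : ∀ s : S, topologicalKrullDim ↥(f.fiber s) = 1)
    (hg : ∀ s : S, (2 : ℤ) ≤ 1 - (CohIII.fiberRank f (Coh.structureModule C) 0 s : ℤ) +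
      CohIII.fiberRank f (Coh.structureModule C) 1 s) :
    RelAmple.IsRelAmple f (Omega.sheaf f) := by
  have key : ∀ s, CohB1.IsAmple ((Scheme.Modules.pullback (f.fiberι s)).obj (Omega.sheaf f)) := by
    intro s
    haveI : IsProper (f.fiber s ↘ Spec (CommRingCat.of (S.residueField s))) :=
      MorphismProperty.of_isPullback (P := @IsProper) (IsPullback.of_hasPullback f (S.fromSpecResidueField s))
        inferInstance
    haveI : Smooth (f.fiber s ↘ Spec (CommRingCat.of (S.residueField s))) :=
      MorphismProperty.of_isPullback (P := @Smooth) (IsPullback.of_hasPullback f (S.fromSpecResidueField s))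
        inferInstance
    haveI := hirr s
    haveI : QuasiSeparated (f.fiber s ↘ Spec (CommRingCat.of (S.residueField s))) :=
      inferInstanceAs (QuasiSeparated (pullback.snd f (S.fromSpecResidueField s)))
    obtain ⟨θ⟩ : Nonempty ((Scheme.Modules.pullback (f.fiberι s)).obj (Omega.sheaf f) ≅
        CurveFF.om (S.residueField s) (f.fiber s)) :=
      GrpOmega.omega_baseChange (IsPullback.of_hasPullback f (S.fromSpecResidueField s))
    have h2 := hg s
    rw [← fiberRank_structure f s 0, ← fiberRank_structure f s 1] at h2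
    exact AmpleLib.isAmple_of_iso θ.symm
      (isAmple_omega (k := S.residueField s) (X := f.fiber s) (hdim s) (by omega))
  exact AmpleFibLib.isRelAmple_of_fibres f (isInvertible_omega_of_fibres f fun s => (key s).1) key

end Groth.Agent.AmpleCurveFamLib
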